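import Cfsg.Agent.Helper16.Brauer43.L3a

/-!
# S0998 (simple groups of order `p r q^b`): shared definitions

`P` a Sylow `p`-subgroup of order `p` with `C_G(P) = P`, `D : L0Data P` the character data of
helper16's defect-one engine.  `cW P D χ = χ(1) · ∑_{y ∈ P \ 1} χ(y)` as an integer.
-/

set_option autoImplicit false

namespace Cfsg.Agent.Helper54.BT

open Cfsg Cfsg.Agent.Helper16 Cfsg.Agent.Helper16.DefOne Cfsg.Agent.Helper82.DefOne
  Cfsg.Agent.Helper77.DefOne Cfsg.Agent.Helper16.Brauer43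

universe u

variable {G : Type u} [Group G] [Fintype G] {p : ℕ} [Fact p.Prime]
  (P : Sylow p G) [Fintype (P : Subgroup G)] (D : L0Data P)

open Classical in
/-- `χ(1) · ∑_{y ∈ P \ 1} χ(y)`: `(p-1) ε_χ χ(1)` on `X`, `-δ e χ(1)` on `Y`, `0` elsewhere -/
noncomputable def cW (χ : IrrCharacter G) : ℤ :=
  if χ ∈ D.X then ((p : ℤ) - 1) * D.ε χ * (charDegree (χ : G → ℂ) : ℤ)
  else if χ ∈ D.Y then -D.δ * ((cen P).relIndex (nor P) : ℤ) * (charDegree (χ : G → ℂ) : ℤ)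
  else 0

theorem cW_of_mem_X {χ : IrrCharacter G} (h : χ ∈ D.X) :
    cW P D χ = ((p : ℤ) - 1) * D.ε χ * (charDegree (χ : G → ℂ) : ℤ) := by
  unfold cW
  rw [if_pos h]

theorem cW_of_mem_Y {χ : IrrCharacter G} (h : χ ∈ D.Y) :
    cW P D χ = -D.δ * ((cen P).relIndex (nor P) : ℤ) * (charDegree (χ : G → ℂ) : ℤ) := by
  have hX : χ ∉ D.X := fun hx => (Set.disjoint_left.mp D.hdisj hx) h
  unfold cW
  rw [if_neg hX, if_pos h]

theorem cW_of_not_mem {χ : IrrCharacter G} (hX : χ ∉ D.X) (hY : χ ∉ D.Y) : cW P D χ = 0 := by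
  unfold cW
  rw [if_neg hX, if_neg hY]

end Cfsg.Agent.Helper54.BT
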