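import Cfsg.Agent.Helper54.BT.Defs
import Cfsg.Agent.Helper70.BTAR1
import Cfsg.Agent.Helper20.D8Main

/-!
# S0998: front end.  The principal character lies in `X`, the degrees in `X \ 1` are divisible
by `q`, the exceptional degree is `r`.
-/

set_option autoImplicit false

namespace Cfsg.Agent.Helper54.BT

open Cfsg Cfsg.Agent.Helper16 Cfsg.Agent.Helper16.DefOne Cfsg.Agent.Helper82.DefOne
  Cfsg.Agent.Helper77.DefOne Cfsg.Agent.Helper16.Brauer43
open scoped ComplexConjugate

universe u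

variable {G : Type u} [Group G] [Fintype G] {p : ℕ} [Fact p.Prime]
  (P : Sylow p G) [Fintype (P : Subgroup G)] (D : L0Data P)

theorem charDegree_principal54 :
    charDegree ((Helper79.principalIrr G : IrrCharacter G) : G → ℂ) = 1 := by
  have h := Helper79.irr_one (Helper79.principalIrr G : IrrCharacter G)
  have h1 : ((Helper79.principalIrr G : IrrCharacter G) : G → ℂ) 1 = 1 := rfl
  rw [h1] at h
  exact_mod_cast h.symm

theorem exists_mem_ne_one54 (hP : Nat.card P = p) : ∃ x : G, x ∈ (P : Subgroup G) ∧ x ≠ 1 := by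
  have hp : p.Prime := Fact.out
  have h1 : 1 < Nat.card (P : Subgroup G) := by
    have : Nat.card (P : Subgroup G) = p := hP
    rw [this]; exact hp.one_lt
  rw [Finite.one_lt_card_iff_nontrivial] at h1
  obtain ⟨x, hx⟩ := exists_ne (1 : (P : Subgroup G))
  exact ⟨x, x.2, fun h => hx (Subtype.ext h)⟩

/-- (K1) -/
theorem principal_mem_X_of_dvd' (hP : Nat.card P = p) (q : ℕ) (hq : 2 ≤ q)
    (hdiv : ∀ χ ∈ D.X, χ ≠ Helper79.principalIrr G → q ∣ charDegree (χ : G → ℂ)) :
    Helper79.principalIrr G ∈ D.X ∧ D.ε (Helper79.principalIrr G) = 1 := by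
  classical
  obtain ⟨x, hx, hx1⟩ := exists_mem_ne_one54 P hP
  have hnotY : Helper79.principalIrr G ∉ D.Y := by
    intro hY
    have hnX : Helper79.principalIrr G ∉ D.X := fun hX => Set.disjoint_left.mp D.hdisj hX hY
    have heq := GL.degree_equation P D _ hY
    rw [charDegree_principal54] at heq
    have hdvd : (q : ℤ) ∣ ∑ᶠ χ ∈ D.X, D.ε χ * (charDegree (χ : G → ℂ) : ℤ) := by
      refine finsum_mem_induction (fun z => (q : ℤ) ∣ z) (dvd_zero _)
        (fun a b ha hb => dvd_add ha hb) ?_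
      intro χ hχ
      have hne : χ ≠ Helper79.principalIrr G := fun h => hnX (h ▸ hχ)
      exact Dvd.dvd.mul_left (by exact_mod_cast hdiv χ hχ hne) _
    rw [← heq] at hdvd
    have h2 : (q : ℤ) ∣ 1 := by
      rcases D.hδ with h | h <;> rw [h] at hdvd
      · simpa using hdvd
      · have : (q : ℤ) ∣ -((-1 : ℤ) * ((1 : ℕ) : ℤ)) := (dvd_neg).mpr hdvd
        simpa using this
    have h3 : q ∣ 1 := by exact_mod_cast h2
    have := Nat.le_of_dvd one_pos h3
    omega
  have hX : Helper79.principalIrr G ∈ D.X := by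
    by_contra hX
    have h := D.hZ _ hX hnotY x hx hx1
    have h1 : ((Helper79.principalIrr G : IrrCharacter G) : G → ℂ) x = 1 := rfl
    rw [h1] at h
    exact one_ne_zero h
  refine ⟨hX, ?_⟩
  have h := D.hX _ hX x hx hx1
  have h1 : ((Helper79.principalIrr G : IrrCharacter G) : G → ℂ) x = 1 := rfl
  rw [h1] at h
  exact_mod_cast h.symm

/-- (K2) -/
theorem q_dvd_deg_X' (hP : Nat.card P = p) (hC : cen P = (P : Subgroup G))
    (hperf : commutator G = ⊤) (q r b : ℕ) (hq : q.Prime) (hr : r.Prime) (hrp : r < p)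
    (hr2 : r ≠ 2) (hes : (cen P).relIndex (nor P) * (nor P).index = r * q ^ b)
    (χ : IrrCharacter G) (hχ : χ ∈ D.X) (hne : χ ≠ Helper79.principalIrr G) :
    q ∣ charDegree (χ : G → ℂ) := by
  have hp : p.Prime := Fact.out
  have hdvd := GL.deg_dvd_X P D hP hC χ hχ
  rw [hes] at hdvd
  have hmod := GL.deg_modEq_X P D hP χ hχ
  have hd1 : charDegree (χ : G → ℂ) ≠ 1 := by
    intro h1
    apply hne
    apply Helper20.D8.eq_principal_of_degree_one hperf χ
    rw [Helper79.irr_one, h1]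
    simp
  refine Helper70.BT.q_dvd_of_modEq p q r b _ hp hq hr hrp hr2 hdvd hd1 ?_
  rcases D.hε χ with h | h <;> rw [h] at hmod
  · left; exact_mod_cast hmod
  · right; exact_mod_cast hmod

/-- (K3) -/
theorem deg_Y_eq_r' (hP : Nat.card P = p) (hC : cen P = (P : Subgroup G))
    (hperf : commutator G = ⊤) (q r b : ℕ) (hq : q.Prime) (hr : r.Prime) (hrp : r < p)
    (hr2 : r ≠ 2) (hes : (cen P).relIndex (nor P) * (nor P).index = r * q ^ b)
    (ψ : IrrCharacter G) (hψ : ψ ∈ D.Y) :
    charDegree (ψ : G → ℂ) = r ∧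
      ((D.δ = 1 ∧ (cen P).relIndex (nor P) = r) ∨
       (D.δ = -1 ∧ (cen P).relIndex (nor P) + r = p)) := by
  classical
  have hp : p.Prime := Fact.out
  have hdiv : ∀ χ ∈ D.X, χ ≠ Helper79.principalIrr G → q ∣ charDegree (χ : G → ℂ) :=
    fun χ hχ hne => q_dvd_deg_X' P D hP hC hperf q r b hq hr hrp hr2 hes χ hχ hne
  obtain ⟨h1X, h1ε⟩ := principal_mem_X_of_dvd' P D hP q hq.two_le hdiv
  set y := charDegree (ψ : G → ℂ) with hy
  -- the degree equation mod q
  have heq := GL.degree_equation P D ψ hψ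
  have hXfin : D.X.Finite := Set.toFinite _
  have hsplit : ∑ᶠ χ ∈ D.X, D.ε χ * (charDegree (χ : G → ℂ) : ℤ) =
      1 + ∑ᶠ χ ∈ D.X \ {Helper79.principalIrr G}, D.ε χ * (charDegree (χ : G → ℂ) : ℤ) := by
    have h1 : D.X = insert (Helper79.principalIrr G) (D.X \ {Helper79.principalIrr G}) := by
      rw [Set.insert_sdiff_singleton, Set.insert_eq_of_mem h1X]
    have h2 : Helper79.principalIrr G ∉ D.X \ {Helper79.principalIrr G} := by
      intro h; exact h.2 rfl
    conv_lhs => rw [h1]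
    rw [finsum_mem_insert _ h2 (Set.toFinite _), h1ε, charDegree_principal54]
    simp
  have hrest : (q : ℤ) ∣ ∑ᶠ χ ∈ D.X \ {Helper79.principalIrr G},
      D.ε χ * (charDegree (χ : G → ℂ) : ℤ) := by
    refine finsum_mem_induction (fun z => (q : ℤ) ∣ z) (dvd_zero _)
      (fun a b ha hb => dvd_add ha hb) ?_
    intro χ hχ
    exact Dvd.dvd.mul_left (by exact_mod_cast hdiv χ hχ.1 hχ.2) _
  rw [hsplit] at heq
  -- `q ∤ y`
  have hqy : ¬ q ∣ y := by
    intro h
    have h2 : (q : ℤ) ∣ D.δ * (y : ℤ) := Dvd.dvd.mul_left (by exact_mod_cast h) _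
    rw [heq] at h2
    have h3 : (q : ℤ) ∣ 1 := (dvd_add_left hrest).mp h2
    have h4 : q ∣ 1 := by exact_mod_cast h3
    have := Nat.le_of_dvd one_pos h4
    have := hq.two_le
    omega
  -- `y ∣ r`
  have hydvd := GL.deg_dvd_Y P D hP hC ψ hψ
  rw [hes] at hydvd
  have hcop : Nat.Coprime y (q ^ b) :=
    Nat.Coprime.pow_right b ((Nat.Prime.coprime_iff_not_dvd hq).mpr hqy).symm
  have hyr : y ∣ r := hcop.dvd_of_dvd_mul_right hydvd
  -- `y ≠ 1`
  have hy1 : y ≠ 1 := by
    intro h1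
    have : ψ = Helper79.principalIrr G := by
      apply Helper20.D8.eq_principal_of_degree_one hperf ψ
      rw [Helper79.irr_one, ← hy, h1]
      simp
    rw [this] at hψ
    exact Set.disjoint_left.mp D.hdisj h1X hψ
  have hyr' : y = r := by
    rcases (Nat.dvd_prime hr).mp hyr with h | h
    · exact absurd h hy1
    · exact h
  refine ⟨hyr', ?_⟩
  -- the congruence
  have hmod := GL.deg_modEq_Y P D hP ψ hψ
  rw [← hy, hyr'] at hmod
  obtain ⟨he1, -, hep⟩ := e_basic P hP
  have hr1 := hr.two_le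
  rcases D.hδ with h | h
  · left
    refine ⟨h, ?_⟩
    rw [h, one_mul] at hmod
    have h5 : ((r : ℤ)) % (p : ℤ) = (((cen P).relIndex (nor P) : ℕ) : ℤ) % (p : ℤ) := hmod
    rw [Int.emod_eq_of_lt (by positivity) (by exact_mod_cast hrp),
      Int.emod_eq_of_lt (by positivity) (by exact_mod_cast hep)] at h5
    exact_mod_cast h5.symm
  · right
    refine ⟨h, ?_⟩
    rw [h] at hmod
    have h5 : (p : ℤ) ∣ (r : ℤ) + (((cen P).relIndex (nor P) : ℕ) : ℤ) := by
      have := (Int.modEq_iff_dvd.mp hmod)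
      have h6 : (-1 : ℤ) * (((cen P).relIndex (nor P) : ℕ) : ℤ) - (r : ℤ) =
          -((r : ℤ) + (((cen P).relIndex (nor P) : ℕ) : ℤ)) := by ring
      rw [h6] at this
      exact (dvd_neg).mp this
    have h6 : p ∣ r + (cen P).relIndex (nor P) := by exact_mod_cast h5
    obtain ⟨k, hk⟩ := h6
    have hk1 : k = 1 := by
      have hlt : p * k < p * 2 := by rw [← hk]; omega
      have hpos : 0 < p * k := by rw [← hk]; omega
      have h7 : k < 2 := Nat.lt_of_mul_lt_mul_left hlt
      have h8 : k ≠ 0 := by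
        rintro rfl
        simp at hpos
      omega
    rw [hk1, mul_one] at hk
    omega

end Cfsg.Agent.Helper54.BT
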