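import Mathlib
import Cfsg.Agent.S0992

/-!
# S0998: group-level reductions
-/

set_option autoImplicit false

namespace Cfsg.Agent.Helper54.BT

open scoped commutatorElement

universe u

/-- a non-cyclic simple group is not commutative -/
theorem not_comm_of_simple54 {G : Type u} [Group G] [Finite G] [IsSimpleGroup G]
    (hG : ¬ IsCyclic G) : ¬ ∀ a b : G, a * b = b * a := by
  intro hcomm
  let _ : CommGroup G := { ‹Group G› with mul_comm := hcomm }
  exact hG IsSimpleGroup.isCyclic

/-- a non-cyclic simple group is perfect -/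
theorem perfect_of_simple54 {G : Type u} [Group G] [Finite G] [IsSimpleGroup G]
    (hG : ¬ IsCyclic G) : commutator G = ⊤ := by
  rcases (inferInstance : (commutator G).Normal).eq_bot_or_eq_top with h | h
  · exfalso
    apply not_comm_of_simple54 hG
    intro a b
    have hab : ⁅a, b⁆ ∈ commutator G := by
      rw [commutator_def]
      exact Subgroup.commutator_mem_commutator (Subgroup.mem_top a) (Subgroup.mem_top b)
    rw [h, Subgroup.mem_bot, commutatorElement_def] at hab
    calc a * b = (a * b * a⁻¹ * b⁻¹) * (b * a) := by group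
      _ = b * a := by rw [hab, one_mul]
  · exact h

/-- a non-cyclic simple group has order divisible by `4` or odd -/
theorem four_dvd_of_even54 {G : Type u} [Group G] [Finite G] [IsSimpleGroup G]
    (hG : ¬ IsCyclic G) (h2 : Even (Nat.card G)) : 4 ∣ Nat.card G := by
  by_contra h4
  have h8 : ¬ 8 ∣ Nat.card G := fun h => h4 (Dvd.dvd.trans (by norm_num) h)
  have hnc : ¬ IsMulCommutative G := by
    intro h
    exact not_comm_of_simple54 hG (fun a b => h.is_comm.comm a b)
  have T : Sylow 2 G := default
  obtain ⟨hK, -⟩ := Cfsg.Agent.S0992.result hnc h2 h8 T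
  have hc : Nat.card (T : Subgroup G) = 4 := hK.card_four
  have := Subgroup.card_subgroup_dvd_card (T : Subgroup G)
  rw [hc] at this
  exact h4 this

/-- in a non-cyclic simple group of order `p r q^b` with `r < p`, `r ≠ 2` -/
theorem r_ne_two54 {G : Type u} [Group G] [Finite G] [IsSimpleGroup G] (hG : ¬ IsCyclic G)
    (p q r b : ℕ) (hp : p.Prime) (hq : q.Prime) (hqr : q ≠ r) (hrp : r < p)
    (hG' : Nat.card G = p * r * q ^ b) : r ≠ 2 := by
  intro hr2
  subst hr2
  have hp2 : p ≠ 2 := by omega
  have hpo : Odd p := hp.odd_of_ne_two hp2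
  have hqo : Odd q := hq.odd_of_ne_two hqr
  have hodd : Odd (p * q ^ b) := hpo.mul hqo.pow
  have heq : Nat.card G = 2 * (p * q ^ b) := by rw [hG']; ring
  have h4 := four_dvd_of_even54 hG (by rw [heq]; exact even_two_mul _)
  rw [heq] at h4
  obtain ⟨k, hk⟩ := h4
  have : p * q ^ b = 2 * k := by omega
  rw [this] at hodd
  exact (Nat.not_odd_iff_even.mpr (even_two_mul k)) hodd

/-- the `p`-part of `p r q^b` -/
theorem factorization_self54 (p q r b : ℕ) (hp : p.Prime) (hq : q.Prime) (hr : r.Prime)
    (hpq : p ≠ q) (hpr : p ≠ r) : (p * r * q ^ b).factorization p = 1 := by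
  have h1 : (p * r * q ^ b).factorization p =
      p.factorization p + r.factorization p + (q ^ b).factorization p := by
    rw [Nat.factorization_mul (Nat.mul_ne_zero hp.ne_zero hr.ne_zero) (pow_ne_zero _ hq.ne_zero),
      Nat.factorization_mul hp.ne_zero hr.ne_zero]
    simp
  rw [h1, hp.factorization_self, Nat.factorization_pow]
  have h2 : r.factorization p = 0 := by
    rw [hr.factorization]
    simp [hpr.symm]
  have h3 : q.factorization p = 0 := by
    rw [hq.factorization]
    simp [hpq.symm]
  simp [h2, h3]

/-- the `q`-part of `p r q^b` -/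
theorem factorization_q54 (p q r b : ℕ) (hp : p.Prime) (hq : q.Prime) (hr : r.Prime)
    (hpq : p ≠ q) (hqr : q ≠ r) : (p * r * q ^ b).factorization q = b := by
  have h1 : (p * r * q ^ b).factorization q =
      p.factorization q + r.factorization q + (q ^ b).factorization q := by
    rw [Nat.factorization_mul (Nat.mul_ne_zero hp.ne_zero hr.ne_zero) (pow_ne_zero _ hq.ne_zero),
      Nat.factorization_mul hp.ne_zero hr.ne_zero]
    simp
  rw [h1, Nat.factorization_pow]
  have h4 : q.factorization q = 1 := hq.factorization_self
  have h2 : r.factorization q = 0 := by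
    rw [hr.factorization]
    simp [hqr.symm]
  have h3 : p.factorization q = 0 := by
    rw [hp.factorization]
    simp [hpq]
  simp [h2, h3, h4]

end Cfsg.Agent.Helper54.BT
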