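import Cfsg.Agent.Helper54.BT.Front
import Cfsg.Agent.Helper78.BlockBasic
import Cfsg.Agent.Helper74.DefectZero
import Cfsg.Agent.Helper65.BTEN
import Cfsg.Agent.Helper65.BTNO
import Cfsg.Agent.Helper63.BTBS
import Cfsg.Agent.Helper70.BTFC

/-!
# S0998: the case `b ≥ 6` is impossible
-/

set_option autoImplicit false

namespace Cfsg.Agent.Helper54.BT

open Cfsg Cfsg.Agent.Helper16 Cfsg.Agent.Helper16.DefOne Cfsg.Agent.Helper82.DefOne
  Cfsg.Agent.Helper77.DefOne Cfsg.Agent.Helper16.Brauer43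
open scoped ComplexConjugate

universe u

/-- a third element of a set with three elements -/
theorem exists_third54 {α : Type*} (X : Set α) (hX : Nat.card X = 3) (a b : α) (ha : a ∈ X)
    (hb : b ∈ X) (hab : a ≠ b) : ∃ c ∈ X, a ≠ c ∧ b ≠ c ∧ X = {a, b, c} := by
  classical
  have hfin : X.Finite := by
    have : Finite X := Nat.finite_of_card_ne_zero (by rw [hX]; norm_num)
    exact Set.toFinite X
  have hnc : X.ncard = 3 := by rw [← hX]; rfl
  have hsub : ({a, b} : Set α) ⊆ X := by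
    intro x hx
    rcases hx with rfl | rfl
    · exact ha
    · exact hb
  have h2 : ({a, b} : Set α).ncard = 2 := Set.ncard_pair hab
  have h1 : (X \ {a, b}).ncard = 1 := by
    have := Set.ncard_diff_add_ncard_of_subset hsub hfin
    omega
  obtain ⟨c, hc⟩ := Set.ncard_eq_one.mp h1
  have hcm : c ∈ X \ {a, b} := by rw [hc]; exact Set.mem_singleton c
  have hca : a ≠ c := fun h => hcm.2 (by rw [← h]; exact Set.mem_insert a _)
  have hcb : b ≠ c := fun h => hcm.2 (by rw [← h]; exact Set.mem_insert_of_mem a rfl)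
  refine ⟨c, hcm.1, hca, hcb, ?_⟩
  ext x
  constructor
  · intro hx
    by_cases hxab : x ∈ ({a, b} : Set α)
    · rcases hxab with rfl | rfl
      · exact Set.mem_insert x _
      · exact Set.mem_insert_of_mem _ (Set.mem_insert x _)
    · have : x ∈ X \ {a, b} := ⟨hx, hxab⟩
      rw [hc] at this
      rw [Set.mem_singleton_iff.mp this]
      exact Set.mem_insert_of_mem _ (Set.mem_insert_of_mem _ rfl)
  · intro hx
    rcases hx with rfl | rfl | rfl
    · exact ha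
    · exact hb
    · exact hcm.1

variable {G : Type u} [Group G] [Fintype G] {p : ℕ} [Fact p.Prime]
  (P : Sylow p G) [Fintype (P : Subgroup G)] (D : L0Data P)

/-- the block-sum congruence gives `1 ∈ B_p ∩ B_2`, which is impossible: `p = 7` -/
theorem large7 [IsSimpleGroup G] (hperf : commutator G = ⊤) (hP : Nat.card P = p)
    (hC : cen P = (P : Subgroup G))
    (hall : ∀ Q : Sylow p G, Subgroup.centralizer ((Q : Subgroup G) : Set G) = (Q : Subgroup G))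
    (hp7 : p = 7) (b : ℕ) (hb : (Nat.card G).factorization 2 = b) (hb6 : 6 ≤ b)
    (he : (cen P).relIndex (nor P) = 3) (hδ : D.δ = 1)
    (hY : ∀ ψ ∈ D.Y, charDegree (ψ : G → ℂ) = 3)
    (h1X : Helper79.principalIrr G ∈ D.X) (h1ε : D.ε (Helper79.principalIrr G) = 1)
    (χ₀ : IrrCharacter G) (h0X : χ₀ ∈ D.X) (h0ε : D.ε χ₀ = 1)
    (h0d : charDegree (χ₀ : G → ℂ) = 8) : False := by
  classical
  haveI : Fact (Nat.Prime 2) := ⟨Nat.prime_two⟩
  have hcX : Nat.card D.X = 3 := by rw [D.hcX, he]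
  have hcY : Nat.card D.Y = 2 := by rw [D.hcY, he, hp7]
  have hne10 : Helper79.principalIrr G ≠ χ₀ := by
    intro h
    rw [← h, charDegree_principal54] at h0d
    omega
  obtain ⟨χ₂, h2X, hne12, hne02, hXeq⟩ := exists_third54 D.X hcX _ _ h1X h0X hne10
  -- the degree equation
  obtain ⟨ψ, hψ⟩ := Helper47.B43.Y_nonempty47 P D hP
  have heq := GL.degree_equation P D ψ hψ
  rw [hY ψ hψ, hδ] at heq
  have hsum : ∑ᶠ χ ∈ D.X, D.ε χ * (charDegree (χ : G → ℂ) : ℤ) =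
      1 + 8 + D.ε χ₂ * (charDegree (χ₂ : G → ℂ) : ℤ) := by
    conv_lhs => rw [hXeq]
    rw [finsum_mem_insert _ (by
        intro h
        rcases h with h | h
        · exact hne10 h
        · exact hne12 h) (Set.toFinite _),
      finsum_mem_insert _ (by
        intro h
        exact hne02 h) (Set.toFinite _), finsum_mem_singleton, h1ε, h0ε,
      charDegree_principal54, h0d]
    push_cast
    ring
  rw [hsum] at heq
  have h2 : D.ε χ₂ = -1 ∧ charDegree (χ₂ : G → ℂ) = 6 := by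
    rcases D.hε χ₂ with h | h
    · rw [h] at heq
      exfalso
      have : (0 : ℤ) ≤ (charDegree (χ₂ : G → ℂ) : ℤ) := by positivity
      omega
    · refine ⟨h, ?_⟩
      rw [h] at heq
      omega
  -- the values of `cW`
  have hc1 : cW P D (Helper79.principalIrr G) = 6 := by
    rw [cW_of_mem_X P D h1X, h1ε, charDegree_principal54, hp7]
    norm_num
  have hc0 : cW P D χ₀ = 48 := by
    rw [cW_of_mem_X P D h0X, h0ε, h0d, hp7]
    norm_num
  have hc2 : cW P D χ₂ = -36 := by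
    rw [cW_of_mem_X P D h2X, h2.1, h2.2, hp7]
    norm_num
  have hcYv : ∀ θ ∈ D.Y, cW P D θ = -9 := by
    intro θ hθ
    rw [cW_of_mem_Y P D hθ, hδ, he, hY θ hθ]
    norm_num
  have hcZ : ∀ χ, χ ∉ D.X → χ ∉ D.Y → cW P D χ = 0 := fun χ h1 h2 => cW_of_not_mem P D h1 h2
  -- the congruence
  obtain ⟨Mp, hMp⟩ := Helper74.exists_isPModular p Fact.out
  obtain ⟨M₂, hM₂⟩ := Helper74.exists_isPModular 2 Nat.prime_two
  have hpq : p ≠ 2 := by omega
  have hno : ∀ g : G, orderOf g ≠ p * 2 := fun g => Helper65.BT.no_order_mul P hP hall 2 Nat.prime_two g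
  obtain ⟨m, hm⟩ := Helper63.BT.block_sum P D hP hC 2 hpq hno b hb Mp M₂ hMp hM₂
    (blockOf Mp (χ₀ : G → ℂ)) (blockOf M₂ (χ₀ : G → ℂ)) ⟨χ₀, rfl⟩ ⟨χ₀, rfl⟩
  have h64 : (64 : ℤ) ∣ ∑ᶠ χ ∈ blockOf Mp (χ₀ : G → ℂ) ∩ blockOf M₂ (χ₀ : G → ℂ), cW P D χ := by
    rw [hm]
    obtain ⟨k, rfl⟩ := Nat.exists_eq_add_of_le hb6
    refine Dvd.intro ((2 : ℤ) ^ k * m) ?_
    push_cast
    ring
  have h0B : χ₀ ∈ blockOf Mp (χ₀ : G → ℂ) ∩ blockOf M₂ (χ₀ : G → ℂ) :=
    ⟨Helper78.mem_blockOf_self (Helper78.isPrime_of_isPModular hMp) χ₀,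
      Helper78.mem_blockOf_self (Helper78.isPrime_of_isPModular hM₂) χ₀⟩
  have h1B := Helper65.BT.enum7 D.X D.Y _ (cW P D) (Helper79.principalIrr G) χ₀ χ₂ hcX h1X h0X h2X hne10
    hne12 hne02 hcY D.hdisj hc1 hc0 hc2 hcYv hcZ h0B h64
  exact Helper70.BT.final_contra hperf 3 (by norm_num) χ₀ (by rw [h0d]; norm_num) M₂ hM₂ h1B.2

/-- the block-sum congruence gives `1 ∈ B_p ∩ B_2`, which is impossible: `p = 5` -/
theorem large5 [IsSimpleGroup G] (hperf : commutator G = ⊤) (hP : Nat.card P = p)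
    (hC : cen P = (P : Subgroup G))
    (hall : ∀ Q : Sylow p G, Subgroup.centralizer ((Q : Subgroup G) : Set G) = (Q : Subgroup G))
    (hp5 : p = 5) (b : ℕ) (hb : (Nat.card G).factorization 2 = b) (hb6 : 6 ≤ b)
    (he : (cen P).relIndex (nor P) = 2) (hδ : D.δ = -1)
    (hY : ∀ ψ ∈ D.Y, charDegree (ψ : G → ℂ) = 3)
    (h1X : Helper79.principalIrr G ∈ D.X) (h1ε : D.ε (Helper79.principalIrr G) = 1)
    (χ₀ : IrrCharacter G) (h0X : χ₀ ∈ D.X) (h0ε : D.ε χ₀ = -1)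
    (h0d : charDegree (χ₀ : G → ℂ) = 4) : False := by
  classical
  haveI : Fact (Nat.Prime 2) := ⟨Nat.prime_two⟩
  have hcX : Nat.card D.X = 2 := by rw [D.hcX, he]
  have hcY : Nat.card D.Y = 2 := by rw [D.hcY, he, hp5]
  have hne10 : Helper79.principalIrr G ≠ χ₀ := by
    intro h
    rw [← h, charDegree_principal54] at h0d
    omega
  have hc1 : cW P D (Helper79.principalIrr G) = 4 := by
    rw [cW_of_mem_X P D h1X, h1ε, charDegree_principal54, hp5]
    norm_num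
  have hc0 : cW P D χ₀ = -16 := by
    rw [cW_of_mem_X P D h0X, h0ε, h0d, hp5]
    norm_num
  have hcYv : ∀ θ ∈ D.Y, cW P D θ = 6 := by
    intro θ hθ
    rw [cW_of_mem_Y P D hθ, hδ, he, hY θ hθ]
    norm_num
  have hcZ : ∀ χ, χ ∉ D.X → χ ∉ D.Y → cW P D χ = 0 := fun χ h1 h2 => cW_of_not_mem P D h1 h2
  obtain ⟨Mp, hMp⟩ := Helper74.exists_isPModular p Fact.out
  obtain ⟨M₂, hM₂⟩ := Helper74.exists_isPModular 2 Nat.prime_two
  have hpq : p ≠ 2 := by omega
  have hno : ∀ g : G, orderOf g ≠ p * 2 := fun g => Helper65.BT.no_order_mul P hP hall 2 Nat.prime_two g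
  obtain ⟨m, hm⟩ := Helper63.BT.block_sum P D hP hC 2 hpq hno b hb Mp M₂ hMp hM₂
    (blockOf Mp (χ₀ : G → ℂ)) (blockOf M₂ (χ₀ : G → ℂ)) ⟨χ₀, rfl⟩ ⟨χ₀, rfl⟩
  have h64 : (64 : ℤ) ∣ ∑ᶠ χ ∈ blockOf Mp (χ₀ : G → ℂ) ∩ blockOf M₂ (χ₀ : G → ℂ), cW P D χ := by
    rw [hm]
    obtain ⟨k, rfl⟩ := Nat.exists_eq_add_of_le hb6
    refine Dvd.intro ((2 : ℤ) ^ k * m) ?_
    push_cast
    ring
  have h0B : χ₀ ∈ blockOf Mp (χ₀ : G → ℂ) ∩ blockOf M₂ (χ₀ : G → ℂ) :=
    ⟨Helper78.mem_blockOf_self (Helper78.isPrime_of_isPModular hMp) χ₀,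
      Helper78.mem_blockOf_self (Helper78.isPrime_of_isPModular hM₂) χ₀⟩
  have h1B := Helper65.BT.enum5 D.X D.Y _ (cW P D) (Helper79.principalIrr G) χ₀ hcX h1X h0X hne10
    hcY D.hdisj hc1 hc0 hcYv hcZ h0B h64
  exact Helper70.BT.final_contra hperf 2 (by norm_num) χ₀ (by rw [h0d]; norm_num) M₂ hM₂ h1B.2

end Cfsg.Agent.Helper54.BT
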