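import Cfsg.Agent.Helper54.BT.Large
import Cfsg.Agent.Helper54.BT.Group
import Cfsg.Agent.Helper58.PrimeDegE2
import Cfsg.Agent.S0904
import Cfsg.Agent.S4503
import Cfsg.Agent.S0494
import Cfsg.Agent.S0495
import Cfsg.Agent.S0253
import Cfsg.Agent.Helper23.BTAR2
import Cfsg.Agent.Helper81.BTAR6
import Cfsg.Agent.Helper70.BTAR3
import Cfsg.Agent.Helper89.BTDP
import Cfsg.Agent.Helper72.BTDM

/-!
# S0998: assembly
-/

set_option autoImplicit false

namespace Cfsg.Agent.Helper54.BT

open Cfsg Cfsg.Agent.Helper16 Cfsg.Agent.Helper16.DefOne Cfsg.Agent.Helper82.DefOne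
  Cfsg.Agent.Helper77.DefOne Cfsg.Agent.Helper16.Brauer43
open scoped ComplexConjugate

universe u

/-- the two possible conclusions -/
def Concl (G : Type u) [Group G] : Prop :=
  (∃ (F : Type) (_ : Field F) (_ : Fintype F), Fintype.card F = 5 ∧
    Nonempty (G ≃* Matrix.ProjectiveSpecialLinearGroup (Fin 2) F)) ∨
  (∃ (F : Type) (_ : Field F) (_ : Fintype F), Fintype.card F = 7 ∧
    Nonempty (G ≃* Matrix.ProjectiveSpecialLinearGroup (Fin 2) F))

theorem concl_of_card_60 {G : Type u} [Group G] [Finite G] [IsSimpleGroup G]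
    (h : Nat.card G = 60) : Concl G := by
  left
  haveI : Fact (Nat.Prime 5) := ⟨by norm_num⟩
  obtain ⟨e1⟩ := Cfsg.Agent.S0494.result h
  obtain ⟨e2⟩ := Cfsg.Agent.S0253.result (F := ZMod 5) (ZMod.card 5)
  exact ⟨ZMod 5, inferInstance, inferInstance, ZMod.card 5, ⟨e1.trans e2.symm⟩⟩

theorem concl_of_card_168 {G : Type u} [Group G] [Finite G] [IsSimpleGroup G]
    (h : Nat.card G = 168) : Concl G := by
  right
  haveI : Fact (Nat.Prime 7) := ⟨by norm_num⟩
  exact ⟨ZMod 7, inferInstance, inferInstance, ZMod.card 7,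
    Cfsg.Agent.S0495.result h (F := ZMod 7) (ZMod.card 7)⟩

/-- the order of the group, `r < p` -/
theorem card_of_lt {G : Type u} [Group G] [Finite G] [IsSimpleGroup G] (hG : ¬ IsCyclic G)
    (p q r b : ℕ) (hp : p.Prime) (hq : q.Prime) (hr : r.Prime) (hpq : p ≠ q) (hpr : p ≠ r)
    (hqr : q ≠ r) (hrp : r < p) (hG' : Nat.card G = p * r * q ^ b) :
    Nat.card G = 60 ∨ Nat.card G = 168 := by
  classical
  haveI : Fact p.Prime := ⟨hp⟩
  letI : Fintype G := Fintype.ofFinite G
  have hperf := perfect_of_simple54 hG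
  have hr2 := r_ne_two54 hG p q r b hp hq hqr hrp hG'
  have hr3 : 3 ≤ r := by have := hr.two_le; omega
  -- the Sylow subgroup
  have hall : ∀ Q : Sylow p G,
      Subgroup.centralizer ((Q : Subgroup G) : Set G) = (Q : Subgroup G) := fun Q =>
    Cfsg.Agent.S0904.result r q p 1 b hr hq hqr.symm hpr.symm hpq.symm
      (by rw [hG']; ring) Q
  obtain ⟨P⟩ : Nonempty (Sylow p G) := inferInstance
  letI : Fintype (P : Subgroup G) := Fintype.ofFinite _
  have hfac : (Nat.card G).factorization p = 1 := by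
    rw [hG']; exact factorization_self54 p q r b hp hq hr hpq hpr
  have hP : Nat.card P = p := by
    have h := P.card_eq_multiplicity
    rw [hfac, pow_one] at h
    exact h
  have hC : cen P = (P : Subgroup G) := hall P
  obtain ⟨D⟩ := exists_L0Data P hP hC
  -- `e s = r q^b`
  have hes : (cen P).relIndex (nor P) * (nor P).index = r * q ^ b := by
    have h := card_eq_mul P hP hC
    rw [hG'] at h
    have h2 : p * (r * q ^ b) = p * ((cen P).relIndex (nor P) * (nor P).index) := by
      rw [← mul_assoc, h]; ring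
    exact (Nat.eq_of_mul_eq_mul_left hp.pos h2).symm
  obtain ⟨he1, hedvd, hep⟩ := e_basic P hP
  -- the number of Sylow subgroups
  have hs1 : (nor P).index % p = 1 := by
    have h1 := card_sylow_modEq_one p G
    rw [Sylow.card_eq_index_normalizer P] at h1
    have h0 : (nor P).index = (Subgroup.normalizer (P : Set G)).index := by
      rw [nor_eq_normalizer P hP]; rfl
    rw [← h0] at h1
    have h2 : (nor P).index % p = 1 % p := h1
    rw [h2]
    exact Nat.mod_eq_of_lt hp.one_lt
  -- front end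
  have hdiv : ∀ χ ∈ D.X, χ ≠ Helper79.principalIrr G → q ∣ charDegree (χ : G → ℂ) :=
    fun χ hχ hne => q_dvd_deg_X' P D hP hC hperf q r b hq hr hrp hr2 hes χ hχ hne
  obtain ⟨h1X, h1ε⟩ := principal_mem_X_of_dvd' P D hP q hq.two_le hdiv
  obtain ⟨ψ, hψ⟩ := Helper47.B43.Y_nonempty47 P D hP
  have hYdeg : ∀ ψ ∈ D.Y, charDegree (ψ : G → ℂ) = r := fun ψ' hψ' =>
    (deg_Y_eq_r' P D hP hC hperf q r b hq hr hrp hr2 hes ψ' hψ').1
  rcases (deg_Y_eq_r' P D hP hC hperf q r b hq hr hrp hr2 hes ψ hψ).2 with ⟨hδ, he⟩ | ⟨hδ, he⟩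
  · -- `δ = 1`, `e = r`
    have hle : p ≤ 2 * r + 1 := by
      have hdvdp : p ∣ Nat.card G := by rw [hG', mul_assoc]; exact Dvd.intro _ rfl
      have hsq : ¬ p ^ 2 ∣ Nat.card G := by
        intro h
        have := (hp.pow_dvd_iff_le_factorization Nat.card_pos.ne').mp h
        omega
      have hnn : ∀ H : Subgroup G, H.Normal → Nat.card H ≠ p := by
        intro H hH hc
        rcases hH.eq_bot_or_eq_top with h | h
        · rw [h, Subgroup.card_bot] at hc
          exact hp.one_lt.ne hc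
        · rw [h, Subgroup.card_top, hG'] at hc
          have h1 : 2 ≤ r * q ^ b := by
            have := Nat.pos_of_ne_zero (pow_ne_zero b hq.ne_zero)
            nlinarith
          have h2 : p * r * q ^ b = p * (r * q ^ b) := by ring
          rw [h2] at hc
          have : p * 2 ≤ p * (r * q ^ b) := Nat.mul_le_mul_left p h1
          have := hp.pos
          omega
      have hd1 : charDegree (ψ : G → ℂ) ≠ 1 := by rw [hYdeg ψ hψ]; omega
      have hfaith := Helper58.PrimeDegE.faithful_of_simple inferInstance ψ hd1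
      have h := Cfsg.Agent.S4503.result p hp hdvdp hsq hnn (ψ : G → ℂ)
        (Helper74.isCharacter_of_isIrr ψ.2) hfaith
      rw [hYdeg ψ hψ] at h
      exact h
    have hpr2 : p = 2 * r + 1 := by
      rw [he] at hedvd
      obtain ⟨k, hk⟩ := hedvd
      have hk1 : k ≠ 0 := by
        rintro rfl
        have := hp.two_le
        omega
      have hk2 : k ≠ 1 := by
        rintro rfl
        -- `p = r + 1`: parity
        have hpo : Odd p := hp.odd_of_ne_two (by omega)
        have hro : Odd r := hr.odd_of_ne_two hr2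
        obtain ⟨a, ha⟩ := hpo
        obtain ⟨c, hc⟩ := hro
        omega
      have hk3 : k < 3 := by
        by_contra h
        have : r * 3 ≤ r * k := Nat.mul_le_mul_left r (by omega)
        omega
      have hk4 : k = 2 := by omega
      rw [hk4] at hk
      have := hp.two_le
      omega
    obtain ⟨χ₀, h0X, h0ε, h0d⟩ := Helper89.BT.delta_plus P D hP hC hperf r hpr2 hr.two_le hδ he hYdeg
    have hdvd0 := GL.deg_dvd_X P D hP hC χ₀ h0X
    rw [hes, h0d] at hdvd0
    obtain ⟨hq2, hp7, hr3'⟩ := Helper23.BT.arith_plus p q r b hp hq hr hr2 hpr2 hdvd0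
    subst hq2
    subst hr3'
    -- `b`
    have hb3 : 3 ≤ b := by
      rw [hp7] at hdvd0
      by_contra h
      have hb : b ≤ 2 := by omega
      have h1 : 3 * 2 ^ b ∣ 3 * 2 ^ 2 := Nat.mul_dvd_mul_left 3 (pow_dvd_pow 2 hb)
      have h2 : (7 + 1) ∣ 3 * 2 ^ 2 := dvd_trans hdvd0 h1
      norm_num at h2
    have hs : (nor P).index = 2 ^ b := by
      rw [he] at hes
      exact Nat.eq_of_mul_eq_mul_left (by norm_num) hes
    rw [hs, hp7] at hs1
    rcases Helper81.BT.arith_b_seven b hb3 hs1 with hb | hb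
    · right
      rw [hG', hp7, hb]
      norm_num
    · exfalso
      have hfac2 : (Nat.card G).factorization 2 = b := by
        rw [hG']; exact factorization_q54 p 2 3 b hp hq hr hpq hqr
      exact large7 P D hperf hP hC hall hp7 b hfac2 hb he hδ hYdeg h1X h1ε χ₀ h0X h0ε
        (by rw [h0d, hp7])
  · -- `δ = -1`, `e + r = p`
    have hedvd' : (cen P).relIndex (nor P) ∣ r * q ^ b := Dvd.intro _ hes
    obtain ⟨hq2, c, hc1, hec⟩ := Helper70.BT.arith_minus_e p q r b _ hp hq hr hr2 hrp he hedvd'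
    subst hq2
    obtain ⟨hp5, hr3', χ₀, h0X, h0ε, h0d⟩ := Helper72.BT.delta_minus P D hP hC hperf r b c hr hrp hr2 hes
      hδ he hc1 hec hYdeg ⟨h1X, h1ε⟩ hdiv
    subst hr3'
    have he2 : (cen P).relIndex (nor P) = 2 := by omega
    have hdvd0 := GL.deg_dvd_X P D hP hC χ₀ h0X
    rw [hes, h0d] at hdvd0
    have hb2 : 2 ≤ b := by
      by_contra h
      have hb : b ≤ 1 := by omega
      have h1 : 3 * 2 ^ b ∣ 3 * 2 ^ 1 := Nat.mul_dvd_mul_left 3 (pow_dvd_pow 2 hb)
      have h2 : 4 ∣ 3 * 2 ^ 1 := dvd_trans hdvd0 h1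
      norm_num at h2
    have hs : 2 * (nor P).index = 3 * 2 ^ b := by
      rw [he2] at hes
      exact hes
    have hs1' : (nor P).index % 5 = 1 := by
      have h := hs1
      generalize (nor P).index = s at h ⊢
      rw [hp5] at h
      exact h
    rcases Helper81.BT.arith_b_five b _ hb2 hs hs1' with hb | hb
    · left
      rw [hG', hp5, hb]
      norm_num
    · exfalso
      have hfac2 : (Nat.card G).factorization 2 = b := by
        rw [hG']; exact factorization_q54 p 2 3 b hp hq hr hpq hqr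
      exact large5 P D hperf hP hC hall hp5 b hfac2 hb he2 hδ hYdeg h1X h1ε χ₀ h0X h0ε h0d

/-- the main theorem, `r < p` -/
theorem main_of_lt {G : Type u} [Group G] [Finite G] [IsSimpleGroup G] (hG : ¬ IsCyclic G)
    (p q r b : ℕ) (hp : p.Prime) (hq : q.Prime) (hr : r.Prime) (hpq : p ≠ q) (hpr : p ≠ r)
    (hqr : q ≠ r) (hrp : r < p) (hG' : Nat.card G = p * r * q ^ b) : Concl G := by
  rcases card_of_lt hG p q r b hp hq hr hpq hpr hqr hrp hG' with h | h
  · exact concl_of_card_60 h
  · exact concl_of_card_168 h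

/-- the order of a non-cyclic simple group of order `p r q^b` -/
theorem card_eq_60_or_168 {G : Type u} [Group G] [Finite G] [IsSimpleGroup G] (hG : ¬ IsCyclic G)
    (p q r b : ℕ) (hp : p.Prime) (hq : q.Prime) (hr : r.Prime) (hpq : p ≠ q) (hpr : p ≠ r)
    (hqr : q ≠ r) (hG' : Nat.card G = p * r * q ^ b) :
    Nat.card G = 60 ∨ Nat.card G = 168 := by
  rcases lt_or_gt_of_ne hpr with h | h
  · exact card_of_lt hG r q p b hr hq hp hqr.symm hpr.symm hpq.symm h (by rw [hG']; ring)
  · exact card_of_lt hG p q r b hp hq hr hpq hpr hqr h hG'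

end Cfsg.Agent.Helper54.BT
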